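import Cfsg.Agent.TT.T4

/-! 3-transpositions: the case `O(⟨D_x⟩) ≰ Z(⟨D_x⟩)`. -/

set_option autoImplicit false
set_option linter.unusedSectionVars false

namespace CfsgTT

open Subgroup Cfsg Equiv CfsgH1 CfsgH2 CfsgLead

variable {G : Type*} [Group G] [Finite G] {D : Set G}

theorem dcount {α β : Type*} {S : Set α} {T : Set β} (hS : S.Finite) (hT : T.Finite) (r : α → β → Prop) {m n : ℕ}
    (hm : ∀ a ∈ S, {b | b ∈ T ∧ r a b}.ncard = m) (hn : ∀ b ∈ T, {a | a ∈ S ∧ r a b}.ncard = n) :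
    S.ncard * m = T.ncard * n := by
  classical
  rw [Set.ncard_eq_toFinset_card S hS, Set.ncard_eq_toFinset_card T hT]
  refine Finset.card_mul_eq_card_mul r (fun a ha => ?_) fun b hb => ?_
  · rw [← hm a (hS.mem_toFinset.1 ha), ← Set.ncard_coe_finset]; congr 1; ext; simp [Finset.bipartiteAbove]
  · rw [← hn b (hT.mem_toFinset.1 hb), ← Set.ncard_coe_finset]; congr 1; ext; simp [Finset.bipartiteBelow]

theorem conj3 (g o : G) : g ^ 3 * o * (g ^ 3)⁻¹ = g * (g * (g * o * g⁻¹) * g⁻¹) * g⁻¹ := by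
  rw [pow_three]; group

theorem fix3 {S : Set G} {u : G} (hu : u ^ 3 = 1) (hS : ∀ s ∈ S, u * s * u⁻¹ ∈ S) :
    S.ncard ≡ {s | s ∈ S ∧ Commute u s}.ncard [MOD 3] := by
  classical
  haveI := Fintype.ofFinite S
  let f : Function.End S := fun s => ⟨_, hS s s.2⟩
  have := Perm.card_fixedPoints_modEq (f := f) (p := 3) (n := 1) (by
    funext s
    rw [pow_one, pow_three]
    refine Subtype.ext ?_
    change u * (u * (u * s * u⁻¹) * u⁻¹) * u⁻¹ = s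
    rw [← conj3, hu]; simp)
  rw [← Nat.card_eq_fintype_card, ← Nat.card_eq_fintype_card, Nat.card_coe_set_eq, Nat.card_coe_set_eq] at this
  rw [← Set.ncard_image_of_injective (Function.fixedPoints f) Subtype.val_injective] at this
  convert this using 2
  ext s
  constructor
  · rintro ⟨h1, h2⟩; exact ⟨⟨s, h1⟩, Subtype.ext (conj_eq_iff_comm.2 h2), rfl⟩
  · rintro ⟨t, h, rfl⟩; exact ⟨t.2, conj_eq_iff_comm.1 (congrArg Subtype.val h)⟩

theorem TS.comm3 (h : TS D) {a b c : G} (ha : a ∈ D) (hb : b ∈ D) (hc : c ∈ D) (n : ¬ Commute a b)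
    (k : Commute (a * b) c) : Commute a c ∧ Commute b c := by
  have : Commute a c := by
    by_contra m
    have e : (a * c) * (a * b) * (a * c)⁻¹ = (a * b)⁻¹ := by
      rw [← conj_conj, conj_eq_iff_comm.2 k.symm, h.inv ha, h.can ha, mul_inv_rev, h.inv ha, h.inv hb]
    have := conj3 (a * c) (a * b)
    rw [h.cube ha hc m, e, ← conj_inv, e, inv_inv, e] at this
    simp only [one_mul, inv_one, mul_one] at this
    exact n ((comm_iff_sq (h.sq ha) (h.sq hb)).2 (by rw [pow_two]; exact mul_eq_one_iff_eq_inv.2 this))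
  exact ⟨this, h.can ha b ▸ this.mul_left k⟩

theorem Dd_image (hc : Cl D) (g a : G) : (fun x => g * x * g⁻¹) '' Dd D a = Dd D (g * a * g⁻¹) := by
  ext y
  constructor
  · rintro ⟨x, hx, rfl⟩; exact (Dd_conj hc g).2 hx
  · intro hy
    exact ⟨g⁻¹ * y * g, (Dd_conj hc g).1 (by simpa [mul_assoc] using hy), by simp [mul_assoc]⟩

theorem Dd.symm {a b : G} (ha : a ∈ D) (k : b ∈ Dd D a) : a ∈ Dd D b := ⟨ha, k.2.1.symm, k.2.2.symm⟩

theorem TC.k_eq (h : TC D) {a b : G} (ha : a ∈ D) (hb : b ∈ D) : (Dd D a).ncard = (Dd D b).ncard := by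
  obtain ⟨g, rfl⟩ := h.conj a ha b hb
  rw [← Dd_image h.cl, ncard_conj]

theorem PR.mu_eq (h : PR D) {a b c e : G} (ha : a ∈ D) (hb : b ∈ D) (hc : c ∈ D) (he : e ∈ D)
    (n : ¬ Commute a b) (m : ¬ Commute c e) : (Dd D a ∩ Dd D b).ncard = (Dd D c ∩ Dd D e).ncard := by
  obtain ⟨g, rfl⟩ := h.conj a ha c hc
  obtain ⟨u, hu, rfl⟩ := h.trans_A hc (h.cl g b hb) he (mt (comm_conj_iff g).1 n) m
  rw [← ncard_conj (u * g), Set.image_inter fun _ _ e => (conj_inj' _).1 e, Dd_image h.cl, Dd_image h.cl,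
    ← conj_conj, ← conj_conj, conj_eq_iff_comm.2 (Kd_comm hu)]

theorem PR.exists_nc_Dd (h : PR D) {d e : G} (hd : d ∈ D) (he : e ∈ D) (n : ¬ Commute d e) :
    ∃ y ∈ Dd D d, ¬ Commute e y := by
  by_contra k
  push Not at k
  obtain ⟨y, hy⟩ := h.exists_Dd hd
  exact h.no_inv hd le_rfl hy (fun a _ c y hy => (Dd_conj' h.cl c.symm).2 hy) he n k

/-- same neighbours inside `D_x` -/
def Rw (D : Set G) (x d e : G) : Prop := d ∈ Dd D x ∧ e ∈ Dd D x ∧ ∀ y ∈ Dd D x, y ∈ Dd D d ↔ y ∈ Dd D e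

theorem Rw.conj (hc : Cl D) {x d e : G} (k : Rw D x d e) (g : G) :
    Rw D (g * x * g⁻¹) (g * d * g⁻¹) (g * e * g⁻¹) := by
  refine ⟨(Dd_conj hc g).2 k.1, (Dd_conj hc g).2 k.2.1, ?_⟩
  rw [← Dd_image hc g x]
  rintro _ ⟨y, hy, rfl⟩
  rw [Dd_conj hc, Dd_conj hc]; exact k.2.2 y hy

theorem Rw.symm {x d e : G} (k : Rw D x d e) : Rw D x e d := ⟨k.2.1, k.1, fun y hy => (k.2.2 y hy).symm⟩
theorem Rw.trans {x d e f : G} (k : Rw D x d e) (k' : Rw D x e f) : Rw D x d f :=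
  ⟨k.1, k'.2.1, fun y hy => (k.2.2 y hy).trans (k'.2.2 y hy)⟩
theorem Rw.eq {x d e : G} (k : Rw D x d e) (c : Commute d e) : e = d := by
  by_contra n; exact ((k.2.2 e k.2.1).1 ⟨k.2.1.1, n, c⟩).2.1 rfl
theorem Rw.conj' (hc : Cl D) {x d e g : G} (k : Rw D x d e) (c : Commute g x) :
    Rw D x (g * d * g⁻¹) (g * e * g⁻¹) := by have := k.conj hc g; rwa [conj_eq_iff_comm.2 c] at this
theorem Rw.self (hc : Cl D) {x d e : G} (k : Rw D x d e) : Rw D x d (e * d * e⁻¹) := by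
  have := k.conj' hc k.2.1.2.2.symm
  rw [mul_inv_cancel_right] at this
  exact k.trans this.symm

theorem rw_of_odd (h : TS D) {x : G} {Q : Subgroup G} (hQ : ∀ q ∈ Q, q ^ 2 = 1 → q = 1)
    (hn : ∀ y ∈ Dd D x, ∀ q ∈ Q, y * q * y⁻¹ ∈ Q) {a b : G} (ha : a ∈ Dd D x) (hb : b ∈ Dd D x) (k : a * b ∈ Q) :
    Rw D x a b := by
  have key : ∀ {a b : G}, a ∈ D → b ∈ D → a * b ∈ Q → ∀ y ∈ Dd D x, y ∈ Dd D a → y ∈ Dd D b := by
    rintro a b ha hb k y hx ⟨hy, ne, c⟩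
    by_cases e : a = b
    · exact ⟨hy, e ▸ ne, e ▸ c⟩
    have n : ¬ Commute a b := fun x => e ((h.mul_eq_one ha).1 (hQ _ k ((comm_iff_sq (h.sq ha) (h.sq hb)).1 x)))
    refine ⟨hy, fun x => n (x ▸ c), ?_⟩
    by_contra m
    obtain ⟨φ, i, h0, h1, h2⟩ := h.hom4 ha hb hy ne.symm c n m
    have := mul_mem k (hn y hx _ k)
    rw [← h0, ← h1, ← h2, ← map_mul, ← map_inv, ← map_mul, ← map_mul, ← map_mul] at this
    have := hQ _ this (by rw [← map_pow, s4a.1, map_one])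
    rw [← map_one φ] at this
    exact s4a.2 (i this)
  refine ⟨ha, hb, fun y hy => ⟨key ha.1 hb.1 k y hy, key hb.1 ha.1 ?_ y hy⟩⟩
  have := inv_mem k; rwa [mul_inv_rev, h.inv ha.1, h.inv hb.1] at this

theorem s5e : ∃ g : Perm (Fin 5), g * swap 0 1 * g⁻¹ = swap 3 4 ∧ g * swap 3 4 * g⁻¹ = swap 0 1 ∧
    g * swap 2 3 * g⁻¹ = swap 1 2 := ⟨swap 0 1 * (swap 0 3 * swap 1 4), by decide⟩

theorem PR.lam0 (h : PR D) {x₀ d₀ e₀ : G} (hx₀ : x₀ ∈ D) (R : Rw D x₀ d₀ e₀) (ne : e₀ ≠ d₀) :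
    ∀ d ∈ D, ∀ x ∈ Dd D d, ∀ b ∈ Dd D d, Commute x b → x = b := by
  intro d hd x hx b hb cb
  obtain ⟨e, ed, R⟩ : ∃ e, e ≠ d ∧ Rw D x d e := by
    obtain ⟨g, rfl⟩ := h.conj x₀ hx₀ x hx.1
    obtain ⟨u, hu, rfl⟩ := h.trans_D hx.1 (R.conj h.cl g).1 (Dd.symm hd hx)
    exact ⟨_, fun t => ne ((conj_inj' g).1 ((conj_inj' u).1 t)), (R.conj h.cl g).conj' h.cl (Kd_comm hu)⟩
  have nde : ¬ Commute d e := fun c => ed (R.eq c)
  have he := R.2.1
  have key : ∀ y ∈ Dd D d, ¬ Commute x y → ¬ Commute e y → Rw D d x y := fun y hy n1 n2 => by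
    obtain ⟨φ, i, h0, h1, h2, h3⟩ := h.ts.hom5 hx.1 hy.1 he.1 hd he.2.2 hx.2.2.symm hy.2.2.symm n1 (ncs n2) (ncs nde)
    obtain ⟨g, g1, g2, g3⟩ := s5e
    have := R.conj h.cl (φ g)
    rw [← h0, ← h2, ← h3] at this
    simp only [← map_inv, ← map_mul, g1, g2, g3] at this
    rwa [h0, h1, h3] at this
  obtain ⟨w, hw, nw⟩ := h.exists_nc_Dd hd he.1 nde
  have Rw' : Rw D d x w := key w hw (fun c => nw ((R.2.2 w ⟨hw.1, fun t => nw (t ▸ he.2.2.symm), c⟩).1 hw).2.2) nw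
  have all : ∀ y ∈ Dd D d, ¬ Commute x y → Rw D d x y := fun y hy n => by
    by_contra m
    have nc : ∀ z, Rw D d x z → ¬ Commute z y := fun z k c =>
      n ((k.2.2 y hy).2 ⟨hy.1, fun t => m (t ▸ k), c⟩).2.2
    have c1 : Commute e y := by by_contra t; exact m (key y hy n t)
    have ww : w * (w * y * w⁻¹) * w⁻¹ = y := by rw [conj_conj, h.ts.sq hw.1]; simp
    have c2 : Commute e (w * y * w⁻¹) := by
      by_contra t
      have := (key _ ((Dd_conj' h.cl hw.2.2.symm).2 hy) (fun c => nc _ (Rw'.self h.cl) (by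
        rw [← ww, comm_conj_iff]; exact c)) t).conj' h.cl hw.2.2.symm
      rw [ww] at this
      exact m ((Rw'.self h.cl).trans this)
    rw [h.ts.braid' hw.1 hy.1 (nc w Rw')] at c2
    have := (c1.inv_right.mul_right c2).mul_right c1
    exact nw (by simpa [mul_assoc] using this)
  obtain ⟨g, hg, e'⟩ := h.trans_D hd hx hb
  have : Kd D d ≤ normalizer {y | Rw D d x y} := (closure_le _).2 fun a ha => mem_norm_set fun y hy => by
    by_cases c : Commute x a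
    · have := Rw.conj' h.cl hy ha.2.symm
      rwa [conj_eq_iff_comm.2 c.symm] at this
    · exact ((all a ⟨ha.1, fun t => c (t ▸ hx.2.2.symm), ha.2⟩ c).self h.cl).trans (Rw.conj' h.cl hy ha.2.symm)
  have := conj_mem_of_norm_set (this hg) (s := x) ⟨hx, hx, fun _ _ => Iff.rfl⟩
  rw [e'] at this
  exact (Rw.eq this cb).symm

theorem s5f : ∀ a ∈ [(0 : Fin 5), 1, 2, 3], ∀ b ∈ [(0 : Fin 5), 1, 2, 3], a ≠ b →
    (∃ i ∈ [(0 : Fin 5), 1, 2], swap a b = swap i 3) ∨ (swap a b ≠ swap 3 4 ∧ swap 3 4 * swap a b = swap a b * swap 3 4 ∧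
      ∃ i ∈ [(0 : Fin 5), 1, 2], swap a b ≠ swap i 3 ∧ swap i 3 * swap a b = swap a b * swap i 3) := by decide

theorem s5g : ∀ i ∈ [(0 : Fin 5), 1, 2], ∀ j ∈ [(0 : Fin 5), 1, 2], i ≠ j →
    swap i 3 * swap j 3 * (swap i 3)⁻¹ = swap i j ∧ swap i j ≠ swap 3 4 ∧ swap 3 4 * swap i j = swap i j * swap 3 4 ∧
      swap i 3 * swap i j ≠ swap i j * swap i 3 := by decide

theorem s5h : ∀ i ∈ [(0 : Fin 5), 1, 2], i ≠ 3 ∧ swap 3 4 * swap i 3 ≠ swap i 3 * swap 3 4 := by decide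

theorem PR.s5_of_lam0 (h : PR D) (lam : ∀ d ∈ D, ∀ x ∈ Dd D d, ∀ b ∈ Dd D d, Commute x b → x = b) :
    Nonempty (G ≃* Perm (Fin 5)) := by
  obtain ⟨d, hd⟩ := h.nonempty
  obtain ⟨x, hx⟩ := h.exists_Dd hd
  obtain ⟨e, he, c, nde⟩ := h.exists_sep hd hx.1 hx.2.1.symm
  replace he : e ∈ Dd D x := ⟨he, fun t => nde (t ▸ hx.2.2), c⟩
  obtain ⟨y, hy, ney⟩ := h.exists_nc_Dd hd he.1 nde
  have xy : x ≠ y := fun t => ney (t ▸ c.symm)
  have nxy : ¬ Commute x y := fun t => xy (lam d hd x hx y hy t)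
  obtain ⟨φ, i, h0, h1, h2, h3⟩ := h.ts.hom5 hx.1 hy.1 he.1 hd he.2.2 hx.2.2.symm hy.2.2.symm nxy (ncs ney) (ncs nde)
  have mD : ∀ {a b : Fin 5}, a ≠ b → φ (swap a b) ∈ D := fun ab =>
    h.cl.map_swap φ (by decide) (h0 ▸ hx.1) ⟨_, _, ab, rfl⟩
  have cm : ∀ {σ τ : Perm (Fin 5)}, Commute (φ σ) (φ τ) ↔ σ * τ = τ * σ := fun {σ τ} =>
    ⟨fun t => i (by rw [map_mul, map_mul]; exact t), fun t => Commute.map t φ⟩
  set μ := (Dd D d ∩ Dd D e).ncard with hμ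
  have mu : ∀ a ∈ D, ∀ b ∈ D, ¬ Commute a b → (Dd D a ∩ Dd D b).ncard = μ := fun a ha b hb n =>
    h.mu_eq ha hb hd he.1 n nde
  have mu' : ∀ j ∈ [(0 : Fin 5), 1, 2], (Dd D d ∩ Dd D (φ (swap j 3))).ncard = μ := fun j hj =>
    mu _ hd _ (mD (s5h j hj).1) (by rw [← h3, cm]; exact (s5h j hj).2)
  have dj : ∀ j ∈ [(0 : Fin 5), 1, 2], ∀ k ∈ [(0 : Fin 5), 1, 2], j ≠ k →
      Disjoint (Dd D d ∩ Dd D (φ (swap j 3))) (Dd D d ∩ Dd D (φ (swap k 3))) := fun j hj k hk jk => by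
    rw [Set.disjoint_left]
    rintro c ⟨hc, c1⟩ ⟨-, c2⟩
    obtain ⟨s1, s2, s3, s4⟩ := s5g j hj k hk jk
    have := (c1.2.2.mul_left c2.2.2).mul_left c1.2.2.inv_left
    rw [← map_inv, ← map_mul, ← map_mul, s1] at this
    have := lam d hd _ ⟨mD jk, fun t => s2 (i (t.trans h3.symm)), by rw [← h3, cm]; exact s3⟩ c hc this
    exact s4 (cm.1 (this ▸ c1.2.2))
  have k3 : (Dd D d).ncard = 3 * μ := by
    have : Dd D d = (Dd D d ∩ Dd D (φ (swap 0 3))) ∪ (Dd D d ∩ Dd D (φ (swap 1 3))) ∪ (Dd D d ∩ Dd D (φ (swap 2 3))) := by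
      refine Set.Subset.antisymm (fun c hc => ?_) (by simp)
      by_contra no
      have no : ∀ j ∈ [(0 : Fin 5), 1, 2], c ∉ Dd D (φ (swap j 3)) := by
        simp only [Set.mem_union, Set.mem_inter_iff, hc, true_and, not_or] at no
        simp [no]
      obtain ⟨a, ha, b, hb, ab, k⟩ := v4_hom h.ts h.cl φ i (p := 0) (q := 1) (r := 2) (s := 3) (by decide)
        (mD (by decide)) hc.1 fun a ha b hb ab k => by
          rcases s5f a ha b hb ab with ⟨j, hj, t⟩ | ⟨s1, s2, j, hj, s3, s4⟩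
          · refine no j hj ⟨hc.1, fun t' => (s5h j hj).2 (cm.1 ?_), t ▸ k⟩
            rw [h3, ← t']; exact hc.2.2
          · have := lam d hd _ ⟨mD ab, fun t => s1 (i (t.trans h3.symm)), by rw [← h3, cm]; exact s2⟩ c hc k
            exact no j hj (this ▸ ⟨mD ab, fun t => s3 (i t), cm.2 s4⟩)
      exact ab (lam c hc.1 a ha b hb k)
    rw [this, Set.ncard_union_eq (Set.disjoint_union_left.2 ⟨dj _ (by simp) _ (by simp) (by decide),
      dj _ (by simp) _ (by simp) (by decide)⟩), Set.ncard_union_eq (dj _ (by simp) _ (by simp) (by decide)),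
      mu' _ (by simp), mu' _ (by simp), mu' _ (by simp)]
    ring
  have dc := dcount (S := Dd D d) (T := {c | c ∈ D ∧ ¬ Commute d c}) (Set.toFinite _) (Set.toFinite _) Commute
    (m := 3 * μ - 1) (n := μ) (fun a ha => by
      rw [← k3, h.k_eq hd ha.1, ← Set.ncard_diff_singleton_of_mem (Dd.symm hd ha)]
      congr 1; ext c
      exact ⟨fun ⟨⟨c1, c2⟩, c3⟩ => ⟨⟨c1, fun t => c2 (t ▸ ha.2.2), c3⟩, fun t => c2 (t ▸ Commute.refl _)⟩,
        fun ⟨c1, c2⟩ => ⟨⟨c1.1, fun t => c2 (lam a ha.1 _ (Dd.symm hd ha) c c1 t).symm⟩, c1.2.2⟩⟩)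
    fun c hc => by
      rw [← mu d hd c hc.1 hc.2]
      congr 1; ext a
      exact ⟨fun ⟨a1, a2⟩ => ⟨a1, a1.1, fun t => hc.2 (t ▸ a1.2.2), a2.symm⟩, fun ⟨a1, a2⟩ => ⟨a1, a2.2.2.symm⟩⟩
  have pos : 0 < μ := (Set.ncard_pos (Set.toFinite _)).2 ⟨x, hx, Dd.symm hx.1 he⟩
  have f1 := fix3 (S := {c | c ∈ D ∧ ¬ Commute d c}) (h.ts.cube hx.1 hy.1 nxy) fun s hs =>
    ⟨h.cl _ _ hs.1, mt (comm_conj_of (hx.2.2.mul_right hy.2.2).symm).1 hs.2⟩
  have : {s | s ∈ {c | c ∈ D ∧ ¬ Commute d c} ∧ Commute (x * y) s} = (Dd D x ∩ Dd D y) \ {d} := by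
    ext s
    refine ⟨fun ⟨⟨s1, s2⟩, s3⟩ => ?_, fun ⟨⟨s1, s2⟩, s3⟩ => ⟨⟨s1.1, fun t => s3 (lam x hx.1 _ (Dd.symm hd hx) s s1 t).symm⟩,
      s1.2.2.mul_left s2.2.2⟩⟩
    obtain ⟨t1, t2⟩ := h.ts.comm3 hx.1 hy.1 s1 nxy s3
    exact ⟨⟨⟨s1, fun t => s2 (t ▸ hx.2.2), t1⟩, s1, fun t => s2 (t ▸ hy.2.2), t2⟩, fun t => s2 (t ▸ Commute.refl _)⟩
  rw [this, Set.ncard_diff_singleton_of_mem (Set.mem_inter (Dd.symm hd hx) (Dd.symm hd hy)), mu x hx.1 y hy.1 nxy] at f1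
  have l3 : {c | c ∈ D ∧ ¬ Commute d c}.ncard = 3 * (3 * μ - 1) :=
    Nat.eq_of_mul_eq_mul_right pos (by rw [← dc, k3]; ring)
  have m1 : μ = 1 := by
    by_contra m
    obtain ⟨a, ha, b, hb, ab⟩ := (Set.one_lt_ncard (s := Dd D d ∩ Dd D e)).1 (by omega)
    have nab : ¬ Commute a b := fun t => ab (lam d hd a ha.1 b hb.1 t)
    have f2 := fix3 (S := Dd D d ∩ Dd D e) (h.ts.cube ha.1.1 hb.1.1 nab) fun s hs =>
      ⟨(Dd_conj' h.cl (ha.1.2.2.mul_right hb.1.2.2).symm).2 hs.1,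
        (Dd_conj' h.cl (ha.2.2.2.mul_right hb.2.2.2).symm).2 hs.2⟩
    have : {s | s ∈ Dd D d ∩ Dd D e ∧ Commute (a * b) s} = ∅ := Set.eq_empty_of_forall_notMem fun s ⟨s1, s2⟩ => by
      obtain ⟨t1, t2⟩ := h.ts.comm3 ha.1.1 hb.1.1 s1.1.1 nab s2
      exact ab ((lam d hd a ha.1 s s1.1 t1).trans (lam d hd b hb.1 s s1.1 t2).symm)
    rw [this, Set.ncard_empty, ← hμ] at f2
    rw [l3] at f1
    unfold Nat.ModEq at f1 f2
    omega
  have t : Tri D := fun a ha => by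
    have k : (Dd D a).ncard = 3 := by rw [h.k_eq ha hd, k3, m1]
    refine ⟨(Set.one_lt_ncard (s := Dd D a)).1 (by omega), lam a ha, fun u hu v hv uv z hz => ?_⟩
    obtain ⟨t1, t2, -⟩ := h.ts.third hu.1 hv.1 fun t => uv (lam a ha u hu v hv t)
    have : {u, v, u * v * u⁻¹} = Dd D a := Set.eq_of_subset_of_ncard_le (by
      rintro _ (rfl | rfl | rfl)
      · exact hu
      · exact hv
      · exact (Dd_conj' h.cl hu.2.2.symm).2 hv) (by rw [k, Set.ncard_eq_three.2 ⟨_, _, _, uv, t1.symm, t2.symm, rfl⟩])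
    exact this.ge hz
  obtain ⟨ψ⟩ := t.s5 h.ts h.cl hd hx hy xy he (fun t => nde (t ▸ Commute.refl _)) (ncs ney)
  rw [h.gen] at ψ
  exact ⟨topEquiv.symm.trans ψ⟩

theorem s5_of_odd (h : IsThreeTranspositionClass D)
    (hsol : ∀ N : Subgroup G, N.Normal → Group.IsSolvable N → N = ⊥)
    (hp : ⁅commutator G, commutator G⁆ = commutator G) {x : G} (hx : x ∈ D)
    (k : ¬ oddCore (closure (Dd D x)) ≤ center (closure (Dd D x))) : Nonempty (G ≃* Perm (Fin 5)) := by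
  obtain ⟨o, ho, y, hy, n⟩ : ∃ o ∈ oddCore (closure (Dd D x)), ∃ y ∈ Dd D x, ¬ Commute (o : G) y := by
    by_contra m
    push Not at m
    refine k fun o ho => mem_center_iff.2 fun g => Subtype.ext ?_
    exact mem_centralizer_singleton_iff.1 ((closure_le (centralizer {(o : G)})).2
      (fun y hy => mem_centralizer_singleton_iff.2 (m o ho y hy).symm) g.2)
  have p := (tc_of h ⟨x, hx, y, hy.1, hy.2.1.symm⟩).pr_of_fischer hsol hp ⟨x, hx, y, hy.1, hy.2.1.symm, hy.2.2⟩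
  have co : Commute (o : G) x := mem_centralizer_singleton_iff.1 ((closure_le (centralizer {x})).2
      (fun y hy => mem_centralizer_singleton_iff.2 hy.2.2.symm) o.2)
  have hn : ∀ y ∈ Dd D x, ∀ q ∈ (oddCore (closure (Dd D x))).map (closure (Dd D x)).subtype,
      y * q * y⁻¹ ∈ (oddCore (closure (Dd D x))).map (closure (Dd D x)).subtype := by
    rintro y hy _ ⟨q, hq, rfl⟩
    exact ⟨_, Normal.conj_mem inferInstance q hq ⟨y, subset_closure hy⟩, rfl⟩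
  refine p.s5_of_lam0 (p.lam0 hx (rw_of_odd p.ts (fun q hq t => ?_) hn hy ((Dd_conj' p.cl co).2 hy) ?_)
    fun t => n (conj_eq_iff_comm.1 t))
  · have := (coprime_card_map_pPrimeCore (p := 2) (closure (Dd D x))).coprime_dvd_left (orderOf_dvd_natCard _ hq)
    exact orderOf_eq_one_iff.1 (Nat.Coprime.eq_one_of_dvd this (orderOf_dvd_of_pow_eq_one t))
  · have := mul_mem (hn y hy _ ⟨o, ho, rfl⟩) (inv_mem ⟨o, ho, rfl⟩)
    rw [p.ts.inv hy.1] at this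
    simpa [mul_assoc] using this

end CfsgTT
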