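import Cfsg.Agent.TT.T1
import Cfsg.Prelude.Def_FischerSpaces

/-! Fischer spaces and 3-transpositions. -/

set_option autoImplicit false
set_option linter.unusedSectionVars false

namespace CfsgTT

open Cfsg Cfsg.LineSystem Equiv

/-- symmetric involutory operation (without distributivity) -/
structure Sym3 {X : Type*} (op : X → X → X) : Prop where
  self : ∀ s, op s s = s
  inv : ∀ s t, op s (op s t) = t
  sym : ∀ s t, op s t ≠ t → op t s = op s t

/-- the lines of an operation -/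
def Ln {X : Type*} (op : X → X → X) : Set (Set X) :=
  {m | ∃ s t, op s t ≠ t ∧ m = {z | z = t ∨ z = s ∨ z = op s t}}

section kei
variable {X Y : Type*} {op : X → X → X} {op' : Y → Y → Y}

theorem Sym3.ne (K : Sym3 op) {s t : X} (n : op s t ≠ t) : s ≠ t ∧ op s t ≠ s :=
  ⟨fun e => n (e ▸ K.self s), fun e => n (by have := K.inv s t; rw [e, K.self] at this; rw [e, this])⟩

theorem Sym3.facts (K : Sym3 op) {s t : X} (n : op s t ≠ t) : op t s = op s t ∧ op s (op s t) = t ∧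
    op t (op s t) = s ∧ op (op s t) s = t ∧ op (op s t) t = s := by
  obtain ⟨n1, n2⟩ := K.ne n
  have e1 := K.sym s t n
  have e2 := K.inv s t
  have e3 : op t (op s t) = s := by rw [← e1, K.inv]
  exact ⟨e1, e2, e3, by rw [K.sym s _ (by rw [e2]; exact n.symm), e2], by rw [K.sym t _ (by rw [e3]; exact n2.symm), e3]⟩

theorem Sym3.line_eq (K : Sym3 op) {m : Set X} (hm : m ∈ Ln op) {a b : X} (ha : a ∈ m) (hb : b ∈ m) (ab : a ≠ b) :
    op a b ≠ b ∧ m = {z | z = b ∨ z = a ∨ z = op a b} := by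
  obtain ⟨s, t, n, rfl⟩ := hm
  obtain ⟨n1, n2⟩ := K.ne n
  obtain ⟨e1, e2, e3, e4, e5⟩ := K.facts n
  rcases ha with rfl | rfl | rfl <;> rcases hb with rfl | rfl | rfl <;> first | exact (ab rfl).elim | skip
  all_goals
    simp only [e1, e2, e3, e4, e5]
    refine ⟨by first | exact n | exact n2 | exact n1 | exact n.symm | exact n2.symm | exact n1.symm, ?_⟩
    first | trivial | (ext z; simp only [Set.mem_setOf_eq]; tauto)

theorem Sym3.pl (K : Sym3 op) : IsPartialLinear (Ln op) := fun _ hl _ hm _ _ xy a b c d =>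
  (K.line_eq hl a b xy).2.trans (K.line_eq hm c d xy).2.symm

theorem Sym3.three (K : Sym3 op) : ∀ l ∈ Ln op, l.ncard = 3 := by
  rintro _ ⟨s, t, n, rfl⟩
  exact Set.ncard_eq_three.2 ⟨t, s, op s t, (K.ne n).1.symm, n.symm, (K.ne n).2.symm, rfl⟩

theorem sub_closed (K : Sym3 op) {T : Set X} (hT : IsSubspace (Ln op) T) {s t : X} (hs : s ∈ T) (ht : t ∈ T) :
    op s t ∈ T := by
  by_cases n : op s t = t
  · rwa [n]
  · exact hT _ ⟨s, t, n, rfl⟩ s hs t ht (K.ne n).1 (Or.inr (Or.inl rfl)) (Or.inl rfl) (Or.inr (Or.inr rfl))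

theorem plane (K : Sym3 op) (p : Y → X) (i : Function.Injective p) (hp : ∀ s t, p (op' s t) = op (p s) (p t))
    {S : Set X} (h1 : S ⊆ Set.range p) (h2 : ∀ T : Set X, S ⊆ T → (∀ s ∈ T, ∀ t ∈ T, op s t ∈ T) → ∀ y, p y ∈ T) :
    Isomorphic (restrict (Ln op) (span (Ln op) S)) (Ln op') := by
  have e : span (Ln op) S = Set.range p := by
    refine Set.Subset.antisymm (Set.sInter_subset_of_mem ⟨h1, ?_⟩) ?_
    · rintro l hl _ ⟨x, rfl⟩ _ ⟨y, rfl⟩ ne hx hy
      rw [(K.line_eq hl hx hy ne).2]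
      rintro _ (rfl | rfl | rfl)
      exacts [⟨_, rfl⟩, ⟨_, rfl⟩, ⟨_, hp _ _⟩]
    · rintro _ ⟨y, rfl⟩ T ⟨k1, k2⟩
      exact h2 T k1 (fun s hs t ht => sub_closed K k2 hs ht) y
  rw [e]
  refine ⟨(Equiv.ofInjective p i).symm, fun l => ⟨?_, ?_⟩⟩
  · rintro ⟨_, ⟨s, t, n, rfl⟩, le, rfl⟩
    obtain ⟨t, rfl⟩ := le (Or.inl rfl)
    obtain ⟨s, rfl⟩ := le (Or.inr (Or.inl rfl))
    refine ⟨s, t, fun k => n (by rw [← hp, k]), ?_⟩
    ext z
    rw [Equiv.image_symm_eq_preimage]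
    simp only [Set.mem_preimage, Set.mem_setOf_eq, Equiv.ofInjective_apply, ← hp, i.eq_iff]
  · rintro ⟨s, t, n, k⟩
    refine ⟨_, ⟨p s, p t, fun k => n (i (by rw [hp, k])), rfl⟩, ?_, ?_⟩
    · rintro _ (rfl | rfl | rfl)
      exacts [⟨_, rfl⟩, ⟨_, rfl⟩, ⟨_, hp _ _⟩]
    · ext ⟨_, z, rfl⟩
      have := Set.ext_iff.1 k z
      rw [Equiv.image_symm_eq_preimage] at this
      simp only [Set.mem_setOf_eq, ← hp, i.eq_iff]
      exact this

theorem lm_eq {L : Set (Set X)} (hL : IsPartialLinear L) {x y z : X} (h1 : z ≠ x) (h2 : z ≠ y) (h3 : x ≠ y)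
    (h4 : ({x, y, z} : Set X) ∈ L) : lineMap L x y = z := by
  have k : ∃ z : X, z ≠ x ∧ z ≠ y ∧ x ≠ y ∧ ({x, y, z} : Set X) ∈ L := ⟨z, h1, h2, h3, h4⟩
  unfold lineMap
  rw [dif_pos k]
  have := hL _ h4 _ k.choose_spec.2.2.2 x y h3 (by simp) (by simp) (by simp) (by simp)
  rcases this.le (show z ∈ _ by simp) with t | t | t
  exacts [(h1 t).elim, (h2 t).elim, t.symm]

theorem lm_cases (L : Set (Set X)) (x y : X) :
    (lineMap L x y ≠ x ∧ lineMap L x y ≠ y ∧ x ≠ y ∧ ({x, y, lineMap L x y} : Set X) ∈ L) ∨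
    (lineMap L x y = y ∧ ¬ ∃ z : X, z ≠ x ∧ z ≠ y ∧ x ≠ y ∧ ({x, y, z} : Set X) ∈ L) := by
  unfold lineMap
  split_ifs with k
  · exact Or.inl k.choose_spec
  · exact Or.inr ⟨rfl, k⟩

theorem lm_sym3 {L : Set (Set X)} (hL : IsPartialLinear L) : Sym3 (lineMap L) where
  self s := (lm_cases L s s).elim (fun k => (k.2.2.1 rfl).elim) fun k => k.1
  inv s t := by
    rcases lm_cases L s t with ⟨a, b, c, d⟩ | k
    · exact lm_eq hL c.symm b.symm a.symm (by rwa [Set.pair_comm])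
    · rw [k.1, k.1]
  sym s t n := by
    rcases lm_cases L s t with ⟨a, b, c, d⟩ | k
    · exact lm_eq hL b a c.symm (by rwa [Set.insert_comm])
    · exact (n k.1).elim

theorem eq_Ln {L : Set (Set X)} (hL : IsPartialLinear L) (h3 : ∀ l ∈ L, l.ncard = 3) : L = Ln (lineMap L) := by
  ext l
  constructor
  · intro hl
    obtain ⟨x, y, z, a, b, c, rfl⟩ := Set.ncard_eq_three.1 (h3 l hl)
    have := lm_eq hL c.symm b.symm a.symm (by rwa [Set.insert_comm])
    exact ⟨y, x, this ▸ b.symm, this ▸ rfl⟩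
  · rintro ⟨s, t, n, rfl⟩
    rcases lm_cases L s t with ⟨a, b, c, d⟩ | k
    · rw [Set.insert_comm] at d; exact d
    · exact (n k.1).elim

theorem iso_op (K : Sym3 op) (K' : Sym3 op') {S : Set X} (hS : IsSubspace (Ln op) S) {e : S ≃ Y}
    (he : IsIso (restrict (Ln op) S) (Ln op') e) (x y : S) :
    e ⟨_, sub_closed K hS x.2 y.2⟩ = op' (e x) (e y) := by
  by_cases n : op x y = y
  · have : (⟨_, sub_closed K hS x.2 y.2⟩ : S) = y := Subtype.ext n
    rw [this]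
    by_contra m
    have := (he (e.symm '' {z | z = e y ∨ z = e x ∨ z = op' (e x) (e y)})).2 (by
      rw [Equiv.image_symm_image]; exact ⟨_, _, Ne.symm m, rfl⟩)
    obtain ⟨l, hl, -, k⟩ := this
    exact (K.line_eq hl (k.le ⟨e x, Or.inr (Or.inl rfl), by simp⟩ : x ∈ _) (k.le ⟨e y, Or.inl rfl, by simp⟩ : y ∈ _)
      fun t => (K'.ne (Ne.symm m)).1 (by rw [Subtype.ext t])).1 n
  · have := (he _).1 ⟨_, ⟨x, y, n, rfl⟩, by
      rintro _ (rfl | rfl | rfl)
      exacts [y.2, x.2, sub_closed K hS x.2 y.2], rfl⟩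
    have k := (K'.line_eq this ⟨x, Or.inr (Or.inl rfl), rfl⟩ ⟨y, Or.inl rfl, rfl⟩
      fun t => (K.ne n).1 (congrArg Subtype.val (e.injective t))).2
    rcases k.le ⟨⟨_, sub_closed K hS x.2 y.2⟩, Or.inr (Or.inr rfl), rfl⟩ with t | t | t
    · exact (n (congrArg Subtype.val (e.injective t))).elim
    · exact ((K.ne n).2 (congrArg Subtype.val (e.injective t))).elim
    · exact t

theorem span_sub (L : Set (Set X)) (S : Set X) : IsSubspace L (span L S) ∧ S ⊆ span L S :=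
  ⟨fun l hl x hx y hy ne a b _ hz T hT => hT.2 l hl x (hx T hT) y (hy T hT) ne a b hz, fun _ hx _ hT => hT.1 hx⟩

theorem dist_of_iso (K : Sym3 op) (K' : Sym3 op') (d : ∀ s t r, op' s (op' t r) = op' (op' s t) (op' s r))
    {S : Set X} (hS : IsSubspace (Ln op) S) (he : Isomorphic (restrict (Ln op) S) (Ln op')) {s t r : X}
    (hs : s ∈ S) (ht : t ∈ S) (hr : r ∈ S) : op s (op t r) = op (op s t) (op s r) := by
  obtain ⟨e, he⟩ := he
  have k := iso_op K K' hS he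
  have := d (e ⟨s, hs⟩) (e ⟨t, ht⟩) (e ⟨r, hr⟩)
  rw [← k, ← k, ← k, ← k, ← k] at this
  exact congrArg Subtype.val (e.injective this)

end kei

/-- the transposition of a two-element subset -/
def sw (s : DualAffinePoint) : Perm (Fin 4) :=
  if 0 ∈ s.1 then (if 1 ∈ s.1 then swap 0 1 else if 2 ∈ s.1 then swap 0 2 else swap 0 3)
  else if 1 ∈ s.1 then (if 2 ∈ s.1 then swap 1 2 else swap 1 3) else swap 2 3

/-- the operation of the dual affine plane -/
def opD (s t : DualAffinePoint) : DualAffinePoint := ⟨t.1.map (sw s).toEmbedding, by rw [Finset.card_map, t.2]⟩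

theorem sw_op : ∀ s t, sw (opD s t) = sw s * sw t * (sw s)⁻¹ := by decide +kernel
theorem sw_inj : ∀ s t, sw s = sw t → s = t := by decide +kernel
theorem opD_sym3 : Sym3 opD := ⟨by decide +kernel, by decide +kernel, by decide +kernel⟩
theorem opD_dist : ∀ s t r, opD s (opD t r) = opD (opD s t) (opD s r) := by decide +kernel
theorem dual_eq : dualAffinePlaneTwo = Ln opD := by
  have h1 : ∀ i : Fin 4, ∃ s t, opD s t ≠ t ∧ ∀ z : DualAffinePoint, i ∉ z.1 ↔ z = t ∨ z = s ∨ z = opD s t := by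
    decide +kernel
  have h2 : ∀ s t, opD s t ≠ t → ∃ i : Fin 4, ∀ z : DualAffinePoint, (z = t ∨ z = s ∨ z = opD s t) ↔ i ∉ z.1 := by
    decide +kernel
  ext l
  constructor
  · rintro ⟨i, rfl⟩
    obtain ⟨s, t, n, k⟩ := h1 i
    exact ⟨s, t, n, Set.ext k⟩
  · rintro ⟨s, t, n, rfl⟩
    obtain ⟨i, k⟩ := h2 s t n
    exact ⟨i, Set.ext k⟩
theorem opD_gen : ∃ a b c, sw a = swap 0 1 ∧ sw b = swap 1 2 ∧ sw c = swap 2 3 ∧
    ∀ y, y = a ∨ y = b ∨ y = c ∨ y = opD a b ∨ y = opD c b ∨ y = opD c (opD a b) :=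
  ⟨⟨{0, 1}, rfl⟩, ⟨{1, 2}, rfl⟩, ⟨{2, 3}, rfl⟩, by decide +kernel⟩

/-- the operation of the affine plane -/
def opA (s t : Fin 2 → ZMod 3) : Fin 2 → ZMod 3 := s + s - t

theorem opA_sym3 : Sym3 opA := ⟨by decide +kernel, by decide +kernel, by decide +kernel⟩
theorem opA_dist : ∀ s t r, opA s (opA t r) = opA (opA s t) (opA s r) := fun s t r => by unfold opA; abel
theorem aff_eq : affinePlaneThree = Ln opA := by
  have h1 : ∀ v w : Fin 2 → ZMod 3, w ≠ 0 → opA (v + w) v ≠ v ∧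
      ∀ z, (∃ c : ZMod 3, z = v + c • w) ↔ z = v ∨ z = v + w ∨ z = opA (v + w) v := by decide +kernel
  ext l
  constructor
  · rintro ⟨v, w, n, rfl⟩
    exact ⟨_, _, (h1 v w n).1, Set.ext (h1 v w n).2⟩
  · rintro ⟨s, t, n, rfl⟩
    have m : s - t ≠ 0 := sub_ne_zero.2 (opA_sym3.ne n).1
    have := (h1 t _ m).2
    rw [add_sub_cancel] at this
    exact ⟨t, _, m, (Set.ext this).symm⟩
theorem opA_gen : ∀ y : Fin 2 → ZMod 3, y = 0 ∨ y = ![1, 0] ∨ y = ![0, 1] ∨ y = opA 0 ![1, 0] ∨ y = opA 0 ![0, 1] ∨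
    y = opA ![1, 0] ![0, 1] ∨ y = opA (opA 0 ![1, 0]) ![0, 1] ∨ y = opA ![1, 0] (opA 0 ![0, 1]) ∨
    y = opA (opA 0 ![1, 0]) (opA 0 ![0, 1]) := by decide +kernel

theorem fischer_dist {X : Type*} {L : Set (Set X)} (hL : IsFischerSpace L) (s t r : X) :
    lineMap L s (lineMap L t r) = lineMap L (lineMap L s t) (lineMap L s r) := by
  have K := lm_sym3 hL.1
  have e := eq_Ln hL.1 hL.2.1
  have h3 := hL.2.2
  generalize lineMap L = op at K e
  subst e
  have key : ∀ s t r, op t r ≠ r → op s (op t r) = op (op s t) (op s r) := fun s t r n => by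
    have hl : {z | z = r ∨ z = t ∨ z = op t r} ∈ Ln op := ⟨t, r, n, rfl⟩
    by_cases k : s = r ∨ s = t ∨ s = op t r
    · obtain ⟨e1, e2, e3, e4, e5⟩ := K.facts n
      rcases k with rfl | rfl | rfl <;> simp only [e1, e2, e3, e4, e5, K.self]
    by_cases k' : ∀ y, (y = r ∨ y = t ∨ y = op t r) → op s y = y
    · rw [k' _ (Or.inl rfl), k' _ (Or.inr (Or.inl rfl)), k' _ (Or.inr (Or.inr rfl))]
    push Not at k'
    obtain ⟨y, hy, m⟩ := k'
    have hS := span_sub (Ln op) ({z | z = r ∨ z = t ∨ z = op t r} ∪ {z | z = y ∨ z = s ∨ z = op s y})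
    have a1 := hS.2 (Or.inr (Or.inr (Or.inl rfl)))
    have a2 := hS.2 (Or.inl (Or.inr (Or.inl rfl)))
    have a3 := hS.2 (Or.inl (Or.inl rfl))
    rcases h3 _ hl _ ⟨s, y, m, rfl⟩ (fun e => k (e.ge (Or.inr (Or.inl rfl)))) ⟨y, hy, Or.inl rfl⟩ with i | i
    · exact dist_of_iso K opD_sym3 opD_dist hS.1 (dual_eq ▸ i) a1 a2 a3
    · exact dist_of_iso K opA_sym3 opA_dist hS.1 (aff_eq ▸ i) a1 a2 a3
  by_cases n : op t r = r
  · by_contra m
    rw [n] at m
    have := key s _ _ (Ne.symm m)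
    rw [K.inv, K.inv, n] at this
    exact m ((congrArg (op s) this).symm.trans (K.inv _ _))
  · exact key s t r n

variable {G : Type*} [Group G] {D : Set G}

theorem heis {a u v : G} (ha : a * a = 1) (hu : a * u * a⁻¹ = u⁻¹) (hv : a * v * a⁻¹ = v⁻¹) (u3 : u ^ 3 = 1)
    (v3 : v ^ 3 = 1) (h1 : (u * v) ^ 3 = 1) (h2 : (u * v⁻¹) ^ 3 = 1) :
    ∃ z, Commute z u ∧ Commute z v ∧ Commute z a ∧ v * u = z * (u * v) := by
  have key : ∀ {u v : G}, v ^ 3 = 1 → (u * v) ^ 3 = 1 → (u * v⁻¹) ^ 3 = 1 → Commute u (v * u * v⁻¹) := by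
    intro u v v3 h1 h2
    have e1 : u * v * u = v⁻¹ * u⁻¹ * v⁻¹ := by
      rw [← mul_right_inj v, ← mul_right_inj u, ← mul_left_inj v]
      calc _ = (u * v) ^ 3 * 1 := by rw [pow_three]; group
        _ = _ := by rw [h1]; group
    have e2 : u * v⁻¹ * u = v * u⁻¹ * v := by
      rw [← mul_right_inj v⁻¹, ← mul_right_inj u, ← mul_left_inj v⁻¹]
      calc _ = (u * v⁻¹) ^ 3 * 1 := by rw [pow_three]; group
        _ = _ := by rw [h2]; group
    have e3 : v⁻¹ * v⁻¹ = v := by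
      rw [← mul_inv_rev, inv_eq_iff_mul_eq_one, ← v3, pow_three, mul_assoc]
    have e4 : v * v = v⁻¹ := by rw [eq_inv_iff_mul_eq_one, ← v3, pow_three, mul_assoc]
    calc u * (v * u * v⁻¹) = (u * v * u) * v⁻¹ := by group
      _ = v⁻¹ * u⁻¹ * (v⁻¹ * v⁻¹) := by rw [e1]; group
      _ = (v * v) * u⁻¹ * v := by rw [e3, e4]
      _ = v * (u * v⁻¹ * u) := by rw [e2]; group
      _ = _ := by group
  have c1 : Commute (v * u * v⁻¹ * u⁻¹) u := ((key v3 h1 h2).mul_right (Commute.refl u).inv_right).symm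
  have c2 : Commute (v * u * v⁻¹ * u⁻¹) v := by
    have := key (u := v) (v := u) u3 (by rw [show v * u = v * (u * v) * v⁻¹ by group, conj_pow, h1]; simp)
      (by rw [show v * u⁻¹ = (u * v⁻¹)⁻¹ by group, inv_pow, h2, inv_one])
    have := ((Commute.refl v).mul_right this.inv_right).symm
    rwa [show v * (u * v * u⁻¹)⁻¹ = v * u * v⁻¹ * u⁻¹ by group] at this
  refine ⟨_, c1, c2, (conj_eq_iff_comm.1 ?_).symm, by group⟩
  calc a * (v * u * v⁻¹ * u⁻¹) * a⁻¹ = (a * v * a⁻¹) * (a * u * a⁻¹) * (a * v * a⁻¹)⁻¹ * (a * u * a⁻¹)⁻¹ := by group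
    _ = (u * v)⁻¹ * ((v * u * v⁻¹ * u⁻¹) * (u * v)) := by rw [hu, hv]; group
    _ = _ := by rw [(c1.mul_right c2).eq]; group

theorem heis2 {z u v : G} (c1 : Commute z u) (c2 : Commute z v) (e : v * u = z * (u * v)) (i j : ℤ) :
    v ^ j * u ^ i = z ^ (i * j) * (u ^ i * v ^ j) := by
  have k1 : v ^ j * u * (v ^ j)⁻¹ = z ^ j * u := by
    have : u⁻¹ * v * u = z * v := by rw [mul_assoc, e, ← mul_assoc, ← c1.inv_right.eq]; group
    have := congrArg (· ^ j) this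
    simp only [c2.mul_zpow] at this
    rw [show u⁻¹ * v * u = u⁻¹ * v * u⁻¹⁻¹ by group, conj_zpow] at this
    rw [(c1.zpow_left j).eq, mul_inv_eq_iff_eq_mul, mul_assoc u, ← this]; group
  have := congrArg (· ^ i) k1
  simp only [conj_zpow, (c1.zpow_left j).mul_zpow] at this
  rw [mul_inv_eq_iff_eq_mul] at this
  rw [this, ← zpow_mul, mul_comm j i, mul_assoc]

theorem aff_emb (h : TS D) {a b c : G} (ha : a ∈ D) (hb : b ∈ D) (hc : c ∈ D) (ab : ¬ Commute a b) (ac : ¬ Commute a c)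
    (k : ∀ x, (x = b ∨ x = a * b * a⁻¹) → ∀ y, (y = c ∨ y = a * c * a⁻¹) → ¬ Commute x y) (cl : Cl D) :
    ∃ g : (Fin 2 → ZMod 3) → G, (Function.Injective fun s => g s * a * (g s)⁻¹) ∧
      (∀ s t, g (opA s t) * a * (g (opA s t))⁻¹ = (g s * a * (g s)⁻¹) * (g t * a * (g t)⁻¹) * (g s * a * (g s)⁻¹)⁻¹) ∧
      g 0 = 1 ∧ g ![1, 0] = a * b ∧ g ![0, 1] = a * c := by
  have hu : a * (a * b) * a⁻¹ = (a * b)⁻¹ := by rw [h.inv ha, h.can ha, mul_inv_rev, h.inv ha, h.inv hb]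
  have hv : a * (a * c) * a⁻¹ = (a * c)⁻¹ := by rw [h.inv ha, h.can ha, mul_inv_rev, h.inv ha, h.inv hc]
  have u3 := h.cube ha hb ab
  have v3 := h.cube ha hc ac
  have s1 : a * b * (a * c) = (a * b * a⁻¹) * c := by rw [h.inv ha]; group
  have s2 : a * b * (a * c)⁻¹ = (a * b * a⁻¹) * (a * c * a⁻¹) := by rw [mul_inv_rev, h.inv hc]; group
  have n1 := k _ (Or.inr rfl) _ (Or.inl rfl)
  have n2 := k _ (Or.inr rfl) _ (Or.inr rfl)
  obtain ⟨z, c1, c2, c3, e⟩ := heis (h.sq ha) hu hv u3 v3 (s1 ▸ h.cube (cl _ _ hb) hc n1)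
    (s2 ▸ h.cube (cl _ _ hb) (cl _ _ hc) n2)
  have ne : ∀ i j : ℤ, (a * b) ^ i * (a * c) ^ j = 1 → (i : ZMod 3) = 0 ∧ (j : ZMod 3) = 0 := fun i j t => by
    have o1 := h.ord3 ha hb ab
    have o2 := h.ord3 ha hc ac
    rw [← zpow_mod_orderOf (a * b), ← zpow_mod_orderOf (a * c), o1, o2] at t
    rw [ZMod.intCast_zmod_eq_zero_iff_dvd, ZMod.intCast_zmod_eq_zero_iff_dvd]
    have w : ∀ {x : G}, x ^ 3 = 1 → x ^ (2 : ℤ) = x⁻¹ := fun {x} t => by
      rw [eq_inv_iff_mul_eq_one, ← t]; group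
    have f1 : a * b * (a * c) ≠ 1 := fun t => n1 (by rw [(h.mul_eq_one (cl _ _ hb)).1 (s1 ▸ t)])
    have f2 : a * b * (a * c)⁻¹ ≠ 1 := fun t => n2 (by rw [(h.mul_eq_one (cl _ _ hb)).1 (s2 ▸ t)])
    have f3 : a * b ≠ 1 := fun t => ab (by rw [(h.mul_eq_one ha).1 t])
    have f4 : a * c ≠ 1 := fun t => ac (by rw [(h.mul_eq_one ha).1 t])
    generalize a * b = u at *
    generalize a * c = v at *
    have hi : i % 3 = 0 ∨ i % 3 = 1 ∨ i % 3 = 2 := by omega
    have hj : j % 3 = 0 ∨ j % 3 = 1 ∨ j % 3 = 2 := by omega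
    push_cast at t ⊢
    rcases hi with hi | hi | hi <;> rcases hj with hj | hj | hj <;> rw [hi, hj] at t <;>
      simp only [w u3, w v3, zpow_zero, zpow_one, one_mul, mul_one, inv_eq_one] at t
    · omega
    · exact (f4 t).elim
    · exact (f4 t).elim
    · exact (f3 t).elim
    · exact (f1 t).elim
    · exact (f2 t).elim
    · exact (f3 t).elim
    · exact (f2 (by rw [inv_mul_eq_one.1 t]; simp)).elim
    · exact (f1 (by rw [← mul_inv_rev, inv_eq_one] at t; rw [mul_eq_one_comm.1 t])).elim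
  generalize a * b = u at *
  generalize a * c = v at *
  have per : ∀ {x : G}, x ^ 3 = 1 → ∀ {i j : ℤ}, (i : ZMod 3) = j → x ^ i = x ^ j := fun {x} t i j e =>
    zpow_eq_zpow_iff_modEq.2 (((ZMod.intCast_eq_intCast_iff i j 3).1 e).of_dvd
      (Int.natCast_dvd_natCast.2 (orderOf_dvd_of_pow_eq_one t)))
  have hu' : ∀ i : ℤ, a * u ^ i = u ^ (-i) * a := fun i => by
    rw [← mul_inv_eq_iff_eq_mul, ← conj_zpow, hu]; group
  have hv' : ∀ i : ℤ, a * v ^ i = v ^ (-i) * a := fun i => by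
    rw [← mul_inv_eq_iff_eq_mul, ← conj_zpow, hv]; group
  have mul : ∀ i j i' j' : ℤ, u ^ i * v ^ j * (u ^ i' * v ^ j') = u ^ (i + i') * v ^ (j + j') * z ^ (i' * j) := by
    intro i j i' j'
    rw [mul_assoc, ← mul_assoc (v ^ j), heis2 c1 c2 e, ← (((c1.zpow_right _).mul_right (c2.zpow_right _)).zpow_left _).eq,
      mul_assoc, ← mul_assoc (u ^ i), ← (c1.zpow_zpow _ _).eq]
    group
  have cz : ∀ (g : G) (n : ℤ), (g * z ^ n) * a * (g * z ^ n)⁻¹ = g * a * g⁻¹ := fun g n => by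
    rw [← conj_conj, conj_eq_iff_comm.2 (c3.zpow_left n)]
  have o : ((1 : ZMod 3).cast : ℤ) = 1 := rfl
  refine ⟨fun s => u ^ ((s 0).cast : ℤ) * v ^ ((s 1).cast : ℤ), fun s t k => ?_, fun s t => ?_, by simp, by simp [o], by simp [o]⟩
  · simp only [] at k
    have := congrArg (fun x => (u ^ (-(t 0).cast : ℤ) * v ^ (-(t 1).cast : ℤ)) * x *
      (u ^ (-(t 0).cast : ℤ) * v ^ (-(t 1).cast : ℤ))⁻¹) k
    simp only [conj_conj, mul, cz] at this
    simp only [neg_add_cancel, zpow_zero, mul_one, one_mul, inv_one] at this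
    generalize hi : -((t 0).cast : ℤ) + (s 0).cast = i at this
    generalize hj : -((t 1).cast : ℤ) + (s 1).cast = j at this
    rw [mul_inv_eq_iff_eq_mul, ← mul_assoc, hu', mul_assoc (u ^ (-i)), hv', ← mul_assoc, mul_left_inj] at this
    have e' : u ^ (-i) * v ^ (-j) = 1 := by
      have t1 : u ^ (-i) = u ^ (i + i) := per u3 (by push_cast; generalize (i : ZMod 3) = x; revert x; decide)
      have t2 : v ^ (-j) = v ^ (j + j) := per v3 (by push_cast; generalize (j : ZMod 3) = x; revert x; decide)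
      rw [t1, t2]
      calc _ = u ^ i * (u ^ i * v ^ j) * v ^ j := by group
        _ = 1 := by rw [this]; group
    obtain ⟨t1, t2⟩ := ne _ _ e'
    rw [← hi] at t1
    rw [← hj] at t2
    push_cast at t1 t2
    funext m
    fin_cases m
    · exact (by linear_combination -t1 : s 0 = t 0)
    · exact (by linear_combination -t2 : s 1 = t 1)
  · simp only []
    generalize hi : ((s 0).cast : ℤ) = i
    generalize hj : ((s 1).cast : ℤ) = j
    generalize hi' : ((t 0).cast : ℤ) = i'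
    generalize hj' : ((t 1).cast : ℤ) = j'
    have t1 : u ^ ((opA s t 0).cast : ℤ) = u ^ (i + (i - i')) := per u3 (by
      rw [← hi, ← hi']; push_cast; simp only [ZMod.intCast_cast, ZMod.cast_id', id, opA, Pi.sub_apply, Pi.add_apply]; ring)
    have t2 : v ^ ((opA s t 1).cast : ℤ) = v ^ (j + j + -j') := per v3 (by
      rw [← hj, ← hj']; push_cast; simp only [ZMod.intCast_cast, ZMod.cast_id', id, opA, Pi.sub_apply, Pi.add_apply]; ring)
    rw [t1, t2, ← cz _ ((i - i') * (j + j)), ← mul, conj_conj]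
    have : u ^ i * v ^ j * a * (u ^ i * v ^ j)⁻¹ * (u ^ i' * v ^ j') = u ^ i * v ^ (j + j) * (u ^ (i - i') * v ^ (-j')) * a := by
      calc _ = u ^ i * v ^ j * (a * v ^ (-j)) * u ^ (i' - i) * v ^ j' := by group
        _ = u ^ i * v ^ (j + j) * (a * u ^ (i' - i)) * v ^ j' := by rw [hv']; group
        _ = u ^ i * v ^ (j + j) * u ^ (i - i') * (a * v ^ j') := by rw [hu']; group
        _ = _ := by rw [hv']; group
    rw [this]; group

/-- conjugation on the members of `D` -/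
def opC (cl : Cl D) (a b : D) : D := ⟨(a : G) * b * (a : G)⁻¹, cl _ _ b.2⟩

theorem opC_eq (cl : Cl D) {a b : D} : opC cl a b = b ↔ Commute (a : G) b :=
  Subtype.ext_iff.trans conj_eq_iff_comm

theorem opC_sym3 (h : TS D) (cl : Cl D) : Sym3 (opC cl) where
  self s := (opC_eq cl).2 rfl
  inv s t := Subtype.ext (by simp only [opC]; rw [conj_conj, h.sq s.2]; simp)
  sym s t n := Subtype.ext (h.braid' t.2 s.2 fun c => n ((opC_eq cl).2 c.symm))

theorem lines_eq (cl : Cl D) : threeTranspositionLines D = Ln (opC cl) := by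
  ext l
  constructor
  · rintro ⟨x, y, n, rfl⟩
    exact ⟨y, x, fun k => n ((opC_eq cl).1 k).symm, by simp only [Subtype.ext_iff]; rfl⟩
  · rintro ⟨y, x, n, rfl⟩
    exact ⟨x, y, fun k => n ((opC_eq cl).2 k.symm), by simp only [Subtype.ext_iff]; rfl⟩

theorem fischer_of_ts (h : TS D) (cl : Cl D) : IsFischerSpace (threeTranspositionLines D) := by
  have K := opC_sym3 h cl
  rw [lines_eq cl]
  refine ⟨K.pl, K.three, fun l hl m hm lm ⟨a, al, am⟩ => ?_⟩
  have cls : ∀ {Y : Type} {op' : Y → Y → Y} (p : Y → D), (∀ s t, p (op' s t) = opC cl (p s) (p t)) → ∀ {l b},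
      l ∈ Ln (opC cl) → a ∈ l → b ∈ l → a ≠ b → a ∈ Set.range p → b ∈ Set.range p → l ⊆ Set.range p := by
    rintro Y op' p hp l b hl al bl ab ⟨x, rfl⟩ ⟨y, rfl⟩
    rw [(K.line_eq hl al bl ab).2]
    rintro _ (rfl | rfl | rfl)
    exacts [⟨_, rfl⟩, ⟨_, rfl⟩, ⟨_, hp _ _⟩]
  by_cases k : ∃ b ∈ l, a ≠ b ∧ ∃ c ∈ m, a ≠ c ∧ Commute (b : G) c
  · left
    obtain ⟨b, bl, ab, c, cm, ac, k⟩ := k
    have n1 := K.line_eq hl al bl ab
    have n2 := K.line_eq hm am cm ac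
    obtain ⟨φ, i, h0, h1, h2⟩ := h.hom4 b.2 a.2 c.2 (fun t => lm (by rw [n1.2, n2.2, Subtype.ext t])) k
      (fun t => n1.1 ((opC_eq cl).2 t.symm)) fun t => n2.1 ((opC_eq cl).2 t)
    obtain ⟨x, y, z, g0, g1, g2, gen⟩ := opD_gen
    have sws : ∀ s, ∃ a b, a ≠ b ∧ sw s = swap a b := by decide +kernel
    let p : DualAffinePoint → D := fun s => ⟨φ (sw s), cl.map_swap φ (by decide) (h0 ▸ b.2) (sws s)⟩
    have hp : ∀ s t, p (opD s t) = opC cl (p s) (p t) := fun s t => Subtype.ext (by simp [p, opC, sw_op])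
    have p0 : p x = b := Subtype.ext (by simp only [p, g0, h0])
    have p1 : p y = a := Subtype.ext (by simp only [p, g1, h1])
    have p2 : p z = c := Subtype.ext (by simp only [p, g2, h2])
    rw [dual_eq]
    refine plane K p (fun s t e => sw_inj s t (i (congrArg Subtype.val e))) hp
      (Set.union_subset (cls p hp hl al bl ab ⟨_, p1⟩ ⟨_, p0⟩) (cls p hp hm am cm ac ⟨_, p1⟩ ⟨_, p2⟩)) fun T le hT s => ?_
    have t0 : p x ∈ T := p0 ▸ le (Or.inl bl)
    have t1 : p y ∈ T := p1 ▸ le (Or.inl al)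
    have t2 : p z ∈ T := p2 ▸ le (Or.inr cm)
    rcases gen s with rfl | rfl | rfl | rfl | rfl | rfl <;> (try simp only [hp]) <;> solve_by_elim (maxDepth := 8)
  · right
    push Not at k
    obtain ⟨b, bl, ab⟩ := Set.exists_ne_of_one_lt_ncard (by rw [K.three l hl]; decide) a
    obtain ⟨c, cm, ac⟩ := Set.exists_ne_of_one_lt_ncard (by rw [K.three m hm]; decide) a
    have n1 := K.line_eq hl al bl ab.symm
    have n2 := K.line_eq hm am cm ac.symm
    obtain ⟨g, i, hg, g0, g1, g2⟩ := aff_emb h a.2 b.2 c.2 (fun t => n1.1 ((opC_eq cl).2 t))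
      (fun t => n2.1 ((opC_eq cl).2 t)) (by
        have b' := k (opC cl a b) (n1.2.ge (Or.inr (Or.inr rfl))) (K.ne n1.1).2.symm
        have m' : opC cl a c ∈ m := n2.2.ge (Or.inr (Or.inr rfl))
        rintro _ (rfl | rfl) _ (rfl | rfl)
        exacts [k b bl ab.symm c cm ac.symm, k b bl ab.symm _ m' (K.ne n2.1).2.symm, b' c cm ac.symm,
          b' _ m' (K.ne n2.1).2.symm]) cl
    let p : (Fin 2 → ZMod 3) → D := fun s => ⟨_, cl (g s) _ a.2⟩
    have hp : ∀ s t, p (opA s t) = opC cl (p s) (p t) := fun s t => Subtype.ext (hg s t)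
    have p0 : p 0 = a := Subtype.ext (by simp [p, g0])
    have p1 : p ![1, 0] = b := Subtype.ext (by
      simp only [p, g1]; exact h.conj_to a.2 b.2 fun t => n1.1 ((opC_eq cl).2 t))
    have p2 : p ![0, 1] = c := Subtype.ext (by
      simp only [p, g2]; exact h.conj_to a.2 c.2 fun t => n2.1 ((opC_eq cl).2 t))
    rw [aff_eq]
    refine plane K p (fun s t e => i (congrArg Subtype.val e)) hp
      (Set.union_subset (cls p hp hl al bl ab.symm ⟨_, p0⟩ ⟨_, p1⟩) (cls p hp hm am cm ac.symm ⟨_, p0⟩ ⟨_, p2⟩))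
      fun T le hT s => ?_
    have t0 : p 0 ∈ T := p0 ▸ le (Or.inl al)
    have t1 : p ![1, 0] ∈ T := p1 ▸ le (Or.inl bl)
    have t2 : p ![0, 1] ∈ T := p2 ▸ le (Or.inr cm)
    rcases opA_gen s with rfl | rfl | rfl | rfl | rfl | rfl | rfl | rfl | rfl <;> (try simp only [hp]) <;>
      solve_by_elim (maxDepth := 10)

end CfsgTT
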